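import Cfsg.Agent.Lib.SporRecognition.Cert.Fi22U.Perm
import Cfsg.Agent.Lib.SporRecognition.Cert.Fi22U.Steps1
import Cfsg.Agent.Lib.SporRecognition.Cert.Fi22U.Steps2

/-! Generated coset-enumeration certificate: Fi22 over <a, c, d, e, f, g, h, i, (a*b*c*d*e*h)^5>, 3510 cosets. -/

set_option autoImplicit false
set_option maxRecDepth 20000
set_option linter.all false
set_option Elab.async false

namespace CfsgLib.SporRecognition.Cert.Fi22U

open CfsgLib.SporRecognition.CosetCert

theorem defs_ok : allBelow 12 3518 (defStep inv fact) = true := by decide +kernel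

theorem final1_c0 : allPow 3510 (finalStep fact node item1 T1 18957 1 3510) 10 0 = true := by decide +kernel
theorem final1_c1 : allPow 3510 (finalStep fact node item1 T1 18957 1 3510) 10 1024 = true := by decide +kernel
theorem final1_c2 : allPow 3510 (finalStep fact node item1 T1 18957 1 3510) 10 2048 = true := by decide +kernel
theorem final1_c3 : allPow 3510 (finalStep fact node item1 T1 18957 1 3510) 10 3072 = true := by decide +kernel
theorem final1 : allBelow 12 3510 (finalStep fact node item1 T1 18957 1 3510) = true :=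
  allBelow_of_upto (hi := 4096)
    (Upto.trans (mid := 2048) (Upto.trans (mid := 1024) ((Upto.of_pow final1_c0 (Nat.le_refl _)) : Upto _ _ 0 (0 + 2 ^ 10))
    ((Upto.of_pow final1_c1 (Nat.le_refl _)) : Upto _ _ 1024 (1024 + 2 ^ 10)))
    (Upto.trans (mid := 3072) ((Upto.of_pow final1_c2 (Nat.le_refl _)) : Upto _ _ 2048 (2048 + 2 ^ 10))
    ((Upto.of_pow final1_c3 (Nat.le_refl _)) : Upto _ _ 3072 (3072 + 2 ^ 10))))
    (by decide) (by decide)

theorem final2_c0 : allPow 3510 (finalStep fact node item2 T2 18957 2 3510) 10 0 = true := by decide +kernel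
theorem final2_c1 : allPow 3510 (finalStep fact node item2 T2 18957 2 3510) 10 1024 = true := by decide +kernel
theorem final2_c2 : allPow 3510 (finalStep fact node item2 T2 18957 2 3510) 10 2048 = true := by decide +kernel
theorem final2_c3 : allPow 3510 (finalStep fact node item2 T2 18957 2 3510) 10 3072 = true := by decide +kernel
theorem final2 : allBelow 12 3510 (finalStep fact node item2 T2 18957 2 3510) = true :=
  allBelow_of_upto (hi := 4096)
    (Upto.trans (mid := 2048) (Upto.trans (mid := 1024) ((Upto.of_pow final2_c0 (Nat.le_refl _)) : Upto _ _ 0 (0 + 2 ^ 10))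
    ((Upto.of_pow final2_c1 (Nat.le_refl _)) : Upto _ _ 1024 (1024 + 2 ^ 10)))
    (Upto.trans (mid := 3072) ((Upto.of_pow final2_c2 (Nat.le_refl _)) : Upto _ _ 2048 (2048 + 2 ^ 10))
    ((Upto.of_pow final2_c3 (Nat.le_refl _)) : Upto _ _ 3072 (3072 + 2 ^ 10))))
    (by decide) (by decide)

theorem final3_c0 : allPow 3510 (finalStep fact node item3 T3 18957 3 3510) 10 0 = true := by decide +kernel
theorem final3_c1 : allPow 3510 (finalStep fact node item3 T3 18957 3 3510) 10 1024 = true := by decide +kernel
theorem final3_c2 : allPow 3510 (finalStep fact node item3 T3 18957 3 3510) 10 2048 = true := by decide +kernel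
theorem final3_c3 : allPow 3510 (finalStep fact node item3 T3 18957 3 3510) 10 3072 = true := by decide +kernel
theorem final3 : allBelow 12 3510 (finalStep fact node item3 T3 18957 3 3510) = true :=
  allBelow_of_upto (hi := 4096)
    (Upto.trans (mid := 2048) (Upto.trans (mid := 1024) ((Upto.of_pow final3_c0 (Nat.le_refl _)) : Upto _ _ 0 (0 + 2 ^ 10))
    ((Upto.of_pow final3_c1 (Nat.le_refl _)) : Upto _ _ 1024 (1024 + 2 ^ 10)))
    (Upto.trans (mid := 3072) ((Upto.of_pow final3_c2 (Nat.le_refl _)) : Upto _ _ 2048 (2048 + 2 ^ 10))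
    ((Upto.of_pow final3_c3 (Nat.le_refl _)) : Upto _ _ 3072 (3072 + 2 ^ 10))))
    (by decide) (by decide)

theorem final4_c0 : allPow 3510 (finalStep fact node item4 T4 18957 4 3510) 10 0 = true := by decide +kernel
theorem final4_c1 : allPow 3510 (finalStep fact node item4 T4 18957 4 3510) 10 1024 = true := by decide +kernel
theorem final4_c2 : allPow 3510 (finalStep fact node item4 T4 18957 4 3510) 10 2048 = true := by decide +kernel
theorem final4_c3 : allPow 3510 (finalStep fact node item4 T4 18957 4 3510) 10 3072 = true := by decide +kernel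
theorem final4 : allBelow 12 3510 (finalStep fact node item4 T4 18957 4 3510) = true :=
  allBelow_of_upto (hi := 4096)
    (Upto.trans (mid := 2048) (Upto.trans (mid := 1024) ((Upto.of_pow final4_c0 (Nat.le_refl _)) : Upto _ _ 0 (0 + 2 ^ 10))
    ((Upto.of_pow final4_c1 (Nat.le_refl _)) : Upto _ _ 1024 (1024 + 2 ^ 10)))
    (Upto.trans (mid := 3072) ((Upto.of_pow final4_c2 (Nat.le_refl _)) : Upto _ _ 2048 (2048 + 2 ^ 10))
    ((Upto.of_pow final4_c3 (Nat.le_refl _)) : Upto _ _ 3072 (3072 + 2 ^ 10))))
    (by decide) (by decide)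

theorem final5_c0 : allPow 3510 (finalStep fact node item5 T5 18957 5 3510) 10 0 = true := by decide +kernel
theorem final5_c1 : allPow 3510 (finalStep fact node item5 T5 18957 5 3510) 10 1024 = true := by decide +kernel
theorem final5_c2 : allPow 3510 (finalStep fact node item5 T5 18957 5 3510) 10 2048 = true := by decide +kernel
theorem final5_c3 : allPow 3510 (finalStep fact node item5 T5 18957 5 3510) 10 3072 = true := by decide +kernel
theorem final5 : allBelow 12 3510 (finalStep fact node item5 T5 18957 5 3510) = true :=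
  allBelow_of_upto (hi := 4096)
    (Upto.trans (mid := 2048) (Upto.trans (mid := 1024) ((Upto.of_pow final5_c0 (Nat.le_refl _)) : Upto _ _ 0 (0 + 2 ^ 10))
    ((Upto.of_pow final5_c1 (Nat.le_refl _)) : Upto _ _ 1024 (1024 + 2 ^ 10)))
    (Upto.trans (mid := 3072) ((Upto.of_pow final5_c2 (Nat.le_refl _)) : Upto _ _ 2048 (2048 + 2 ^ 10))
    ((Upto.of_pow final5_c3 (Nat.le_refl _)) : Upto _ _ 3072 (3072 + 2 ^ 10))))
    (by decide) (by decide)

theorem final6_c0 : allPow 3510 (finalStep fact node item6 T6 18957 6 3510) 10 0 = true := by decide +kernel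
theorem final6_c1 : allPow 3510 (finalStep fact node item6 T6 18957 6 3510) 10 1024 = true := by decide +kernel
theorem final6_c2 : allPow 3510 (finalStep fact node item6 T6 18957 6 3510) 10 2048 = true := by decide +kernel
theorem final6_c3 : allPow 3510 (finalStep fact node item6 T6 18957 6 3510) 10 3072 = true := by decide +kernel
theorem final6 : allBelow 12 3510 (finalStep fact node item6 T6 18957 6 3510) = true :=
  allBelow_of_upto (hi := 4096)
    (Upto.trans (mid := 2048) (Upto.trans (mid := 1024) ((Upto.of_pow final6_c0 (Nat.le_refl _)) : Upto _ _ 0 (0 + 2 ^ 10))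
    ((Upto.of_pow final6_c1 (Nat.le_refl _)) : Upto _ _ 1024 (1024 + 2 ^ 10)))
    (Upto.trans (mid := 3072) ((Upto.of_pow final6_c2 (Nat.le_refl _)) : Upto _ _ 2048 (2048 + 2 ^ 10))
    ((Upto.of_pow final6_c3 (Nat.le_refl _)) : Upto _ _ 3072 (3072 + 2 ^ 10))))
    (by decide) (by decide)

theorem final7_c0 : allPow 3510 (finalStep fact node item7 T7 18957 7 3510) 10 0 = true := by decide +kernel
theorem final7_c1 : allPow 3510 (finalStep fact node item7 T7 18957 7 3510) 10 1024 = true := by decide +kernel
theorem final7_c2 : allPow 3510 (finalStep fact node item7 T7 18957 7 3510) 10 2048 = true := by decide +kernel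
theorem final7_c3 : allPow 3510 (finalStep fact node item7 T7 18957 7 3510) 10 3072 = true := by decide +kernel
theorem final7 : allBelow 12 3510 (finalStep fact node item7 T7 18957 7 3510) = true :=
  allBelow_of_upto (hi := 4096)
    (Upto.trans (mid := 2048) (Upto.trans (mid := 1024) ((Upto.of_pow final7_c0 (Nat.le_refl _)) : Upto _ _ 0 (0 + 2 ^ 10))
    ((Upto.of_pow final7_c1 (Nat.le_refl _)) : Upto _ _ 1024 (1024 + 2 ^ 10)))
    (Upto.trans (mid := 3072) ((Upto.of_pow final7_c2 (Nat.le_refl _)) : Upto _ _ 2048 (2048 + 2 ^ 10))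
    ((Upto.of_pow final7_c3 (Nat.le_refl _)) : Upto _ _ 3072 (3072 + 2 ^ 10))))
    (by decide) (by decide)

theorem final8_c0 : allPow 3510 (finalStep fact node item8 T8 18957 8 3510) 10 0 = true := by decide +kernel
theorem final8_c1 : allPow 3510 (finalStep fact node item8 T8 18957 8 3510) 10 1024 = true := by decide +kernel
theorem final8_c2 : allPow 3510 (finalStep fact node item8 T8 18957 8 3510) 10 2048 = true := by decide +kernel
theorem final8_c3 : allPow 3510 (finalStep fact node item8 T8 18957 8 3510) 10 3072 = true := by decide +kernel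
theorem final8 : allBelow 12 3510 (finalStep fact node item8 T8 18957 8 3510) = true :=
  allBelow_of_upto (hi := 4096)
    (Upto.trans (mid := 2048) (Upto.trans (mid := 1024) ((Upto.of_pow final8_c0 (Nat.le_refl _)) : Upto _ _ 0 (0 + 2 ^ 10))
    ((Upto.of_pow final8_c1 (Nat.le_refl _)) : Upto _ _ 1024 (1024 + 2 ^ 10)))
    (Upto.trans (mid := 3072) ((Upto.of_pow final8_c2 (Nat.le_refl _)) : Upto _ _ 2048 (2048 + 2 ^ 10))
    ((Upto.of_pow final8_c3 (Nat.le_refl _)) : Upto _ _ 3072 (3072 + 2 ^ 10))))
    (by decide) (by decide)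

theorem final9_c0 : allPow 3510 (finalStep fact node item9 T9 18957 9 3510) 10 0 = true := by decide +kernel
theorem final9_c1 : allPow 3510 (finalStep fact node item9 T9 18957 9 3510) 10 1024 = true := by decide +kernel
theorem final9_c2 : allPow 3510 (finalStep fact node item9 T9 18957 9 3510) 10 2048 = true := by decide +kernel
theorem final9_c3 : allPow 3510 (finalStep fact node item9 T9 18957 9 3510) 10 3072 = true := by decide +kernel
theorem final9 : allBelow 12 3510 (finalStep fact node item9 T9 18957 9 3510) = true :=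
  allBelow_of_upto (hi := 4096)
    (Upto.trans (mid := 2048) (Upto.trans (mid := 1024) ((Upto.of_pow final9_c0 (Nat.le_refl _)) : Upto _ _ 0 (0 + 2 ^ 10))
    ((Upto.of_pow final9_c1 (Nat.le_refl _)) : Upto _ _ 1024 (1024 + 2 ^ 10)))
    (Upto.trans (mid := 3072) ((Upto.of_pow final9_c2 (Nat.le_refl _)) : Upto _ _ 2048 (2048 + 2 ^ 10))
    ((Upto.of_pow final9_c3 (Nat.le_refl _)) : Upto _ _ 3072 (3072 + 2 ^ 10))))
    (by decide) (by decide)

instance neZero : NeZero (3510 : Nat) := ⟨by decide⟩

theorem certified : Certified (Cfsg.Spor.coxRelators Cfsg.Spor.Fi22.edges ∪ {r | r ∈ Cfsg.Spor.Fi22.extra}) subW 3510 tabs :=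
  certified_of_checks (edges := Cfsg.Spor.Fi22.edges) (pairs := pairs) (extra := Cfsg.Spor.Fi22.extra) (extraW := extraW)
    (by decide +kernel) rfl invols relW (by decide +kernel) (by decide +kernel) subW lets data 3510 rfl
    rtriv rroot 48 57 rfl rfl (by decide +kernel) (by decide +kernel)
    (fun k hk => allBelow_spec defs_ok k hk) (covers1.trans (covers2)) (by decide +kernel)
    (by
      intro i hi u hu
      have hi' : i < 9 := hi
      interval_cases i
      · exact allBelow_spec final1 u hu
      · exact allBelow_spec final2 u hu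
      · exact allBelow_spec final3 u hu
      · exact allBelow_spec final4 u hu
      · exact allBelow_spec final5 u hu
      · exact allBelow_spec final6 u hu
      · exact allBelow_spec final7 u hu
      · exact allBelow_spec final8 u hu
      · exact allBelow_spec final9 u hu
      ) tabs tablesOK relW_ok subW_fix trans_ok
    (by
      intro a
      cases a
      · exact ⟨0, by decide, rfl, rfl⟩
      · exact ⟨1, by decide, rfl, rfl⟩
      · exact ⟨2, by decide, rfl, rfl⟩
      · exact ⟨3, by decide, rfl, rfl⟩
      · exact ⟨4, by decide, rfl, rfl⟩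
      · exact ⟨5, by decide, rfl, rfl⟩
      · exact ⟨6, by decide, rfl, rfl⟩
      · exact ⟨7, by decide, rfl, rfl⟩
      · exact ⟨8, by decide, rfl, rfl⟩
      )

end CfsgLib.SporRecognition.Cert.Fi22U
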