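import Cfsg.Agent.Lib.SporRecognition.Cert.Fi22U.PermBase

/-! Generated coset-enumeration certificate: Fi22 over <a, c, d, e, f, g, h, i, (a*b*c*d*e*h)^5>, 3510 cosets. -/

set_option autoImplicit false
set_option maxRecDepth 20000
set_option linter.all false
set_option Elab.async false

namespace CfsgLib.SporRecognition.Cert.Fi22U

open CfsgLib.SporRecognition.CosetCert

theorem relChk0 : allBelow 12 3510 (fixStep [T1, T1]) = true := by decide +kernel

theorem rel0 : ∀ u, u < 3510 → trace (wordTabs tabs [(.a, true), (.a, true)]) u = u :=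
  trace_of_fixStep (ts := [T1, T1]) relChk0

theorem relChk1_c0 : allPow 3510 (fixStep [T2, T1, T2, T1, T2, T1]) 11 0 = true := by decide +kernel
theorem relChk1_c1 : allPow 3510 (fixStep [T2, T1, T2, T1, T2, T1]) 11 2048 = true := by decide +kernel
theorem relChk1 : allBelow 12 3510 (fixStep [T2, T1, T2, T1, T2, T1]) = true :=
  allBelow_of_upto (hi := 4096)
    (Upto.trans (mid := 2048) ((Upto.of_pow relChk1_c0 (Nat.le_refl _)) : Upto _ _ 0 (0 + 2 ^ 11))
    ((Upto.of_pow relChk1_c1 (Nat.le_refl _)) : Upto _ _ 2048 (2048 + 2 ^ 11)))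
    (by decide) (by decide)

theorem rel1 : ∀ u, u < 3510 → trace (wordTabs tabs [(.a, true), (.b, true), (.a, true), (.b, true), (.a, true), (.b, true)]) u = u :=
  trace_of_fixStep (ts := [T2, T1, T2, T1, T2, T1]) relChk1

theorem relChk2_c0 : allPow 3510 (fixStep [T3, T1, T3, T1]) 11 0 = true := by decide +kernel
theorem relChk2_c1 : allPow 3510 (fixStep [T3, T1, T3, T1]) 11 2048 = true := by decide +kernel
theorem relChk2 : allBelow 12 3510 (fixStep [T3, T1, T3, T1]) = true :=
  allBelow_of_upto (hi := 4096)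
    (Upto.trans (mid := 2048) ((Upto.of_pow relChk2_c0 (Nat.le_refl _)) : Upto _ _ 0 (0 + 2 ^ 11))
    ((Upto.of_pow relChk2_c1 (Nat.le_refl _)) : Upto _ _ 2048 (2048 + 2 ^ 11)))
    (by decide) (by decide)

theorem rel2 : ∀ u, u < 3510 → trace (wordTabs tabs [(.a, true), (.c, true), (.a, true), (.c, true)]) u = u :=
  trace_of_fixStep (ts := [T3, T1, T3, T1]) relChk2

theorem relChk3_c0 : allPow 3510 (fixStep [T4, T1, T4, T1]) 11 0 = true := by decide +kernel
theorem relChk3_c1 : allPow 3510 (fixStep [T4, T1, T4, T1]) 11 2048 = true := by decide +kernel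
theorem relChk3 : allBelow 12 3510 (fixStep [T4, T1, T4, T1]) = true :=
  allBelow_of_upto (hi := 4096)
    (Upto.trans (mid := 2048) ((Upto.of_pow relChk3_c0 (Nat.le_refl _)) : Upto _ _ 0 (0 + 2 ^ 11))
    ((Upto.of_pow relChk3_c1 (Nat.le_refl _)) : Upto _ _ 2048 (2048 + 2 ^ 11)))
    (by decide) (by decide)

theorem rel3 : ∀ u, u < 3510 → trace (wordTabs tabs [(.a, true), (.d, true), (.a, true), (.d, true)]) u = u :=
  trace_of_fixStep (ts := [T4, T1, T4, T1]) relChk3

theorem relChk4_c0 : allPow 3510 (fixStep [T5, T1, T5, T1]) 11 0 = true := by decide +kernel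
theorem relChk4_c1 : allPow 3510 (fixStep [T5, T1, T5, T1]) 11 2048 = true := by decide +kernel
theorem relChk4 : allBelow 12 3510 (fixStep [T5, T1, T5, T1]) = true :=
  allBelow_of_upto (hi := 4096)
    (Upto.trans (mid := 2048) ((Upto.of_pow relChk4_c0 (Nat.le_refl _)) : Upto _ _ 0 (0 + 2 ^ 11))
    ((Upto.of_pow relChk4_c1 (Nat.le_refl _)) : Upto _ _ 2048 (2048 + 2 ^ 11)))
    (by decide) (by decide)

theorem rel4 : ∀ u, u < 3510 → trace (wordTabs tabs [(.a, true), (.e, true), (.a, true), (.e, true)]) u = u :=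
  trace_of_fixStep (ts := [T5, T1, T5, T1]) relChk4

theorem relChk5_c0 : allPow 3510 (fixStep [T6, T1, T6, T1]) 11 0 = true := by decide +kernel
theorem relChk5_c1 : allPow 3510 (fixStep [T6, T1, T6, T1]) 11 2048 = true := by decide +kernel
theorem relChk5 : allBelow 12 3510 (fixStep [T6, T1, T6, T1]) = true :=
  allBelow_of_upto (hi := 4096)
    (Upto.trans (mid := 2048) ((Upto.of_pow relChk5_c0 (Nat.le_refl _)) : Upto _ _ 0 (0 + 2 ^ 11))
    ((Upto.of_pow relChk5_c1 (Nat.le_refl _)) : Upto _ _ 2048 (2048 + 2 ^ 11)))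
    (by decide) (by decide)

theorem rel5 : ∀ u, u < 3510 → trace (wordTabs tabs [(.a, true), (.f, true), (.a, true), (.f, true)]) u = u :=
  trace_of_fixStep (ts := [T6, T1, T6, T1]) relChk5

theorem relChk6_c0 : allPow 3510 (fixStep [T7, T1, T7, T1]) 11 0 = true := by decide +kernel
theorem relChk6_c1 : allPow 3510 (fixStep [T7, T1, T7, T1]) 11 2048 = true := by decide +kernel
theorem relChk6 : allBelow 12 3510 (fixStep [T7, T1, T7, T1]) = true :=
  allBelow_of_upto (hi := 4096)
    (Upto.trans (mid := 2048) ((Upto.of_pow relChk6_c0 (Nat.le_refl _)) : Upto _ _ 0 (0 + 2 ^ 11))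
    ((Upto.of_pow relChk6_c1 (Nat.le_refl _)) : Upto _ _ 2048 (2048 + 2 ^ 11)))
    (by decide) (by decide)

theorem rel6 : ∀ u, u < 3510 → trace (wordTabs tabs [(.a, true), (.g, true), (.a, true), (.g, true)]) u = u :=
  trace_of_fixStep (ts := [T7, T1, T7, T1]) relChk6

theorem relChk7_c0 : allPow 3510 (fixStep [T8, T1, T8, T1]) 11 0 = true := by decide +kernel
theorem relChk7_c1 : allPow 3510 (fixStep [T8, T1, T8, T1]) 11 2048 = true := by decide +kernel
theorem relChk7 : allBelow 12 3510 (fixStep [T8, T1, T8, T1]) = true :=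
  allBelow_of_upto (hi := 4096)
    (Upto.trans (mid := 2048) ((Upto.of_pow relChk7_c0 (Nat.le_refl _)) : Upto _ _ 0 (0 + 2 ^ 11))
    ((Upto.of_pow relChk7_c1 (Nat.le_refl _)) : Upto _ _ 2048 (2048 + 2 ^ 11)))
    (by decide) (by decide)

theorem rel7 : ∀ u, u < 3510 → trace (wordTabs tabs [(.a, true), (.h, true), (.a, true), (.h, true)]) u = u :=
  trace_of_fixStep (ts := [T8, T1, T8, T1]) relChk7

theorem relChk8_c0 : allPow 3510 (fixStep [T9, T1, T9, T1]) 11 0 = true := by decide +kernel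
theorem relChk8_c1 : allPow 3510 (fixStep [T9, T1, T9, T1]) 11 2048 = true := by decide +kernel
theorem relChk8 : allBelow 12 3510 (fixStep [T9, T1, T9, T1]) = true :=
  allBelow_of_upto (hi := 4096)
    (Upto.trans (mid := 2048) ((Upto.of_pow relChk8_c0 (Nat.le_refl _)) : Upto _ _ 0 (0 + 2 ^ 11))
    ((Upto.of_pow relChk8_c1 (Nat.le_refl _)) : Upto _ _ 2048 (2048 + 2 ^ 11)))
    (by decide) (by decide)

theorem rel8 : ∀ u, u < 3510 → trace (wordTabs tabs [(.a, true), (.i, true), (.a, true), (.i, true)]) u = u :=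
  trace_of_fixStep (ts := [T9, T1, T9, T1]) relChk8

theorem relChk9 : allBelow 12 3510 (fixStep [T2, T2]) = true := by decide +kernel

theorem rel9 : ∀ u, u < 3510 → trace (wordTabs tabs [(.b, true), (.b, true)]) u = u :=
  trace_of_fixStep (ts := [T2, T2]) relChk9

theorem relChk10_c0 : allPow 3510 (fixStep [T3, T2, T3, T2, T3, T2]) 11 0 = true := by decide +kernel
theorem relChk10_c1 : allPow 3510 (fixStep [T3, T2, T3, T2, T3, T2]) 11 2048 = true := by decide +kernel
theorem relChk10 : allBelow 12 3510 (fixStep [T3, T2, T3, T2, T3, T2]) = true :=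
  allBelow_of_upto (hi := 4096)
    (Upto.trans (mid := 2048) ((Upto.of_pow relChk10_c0 (Nat.le_refl _)) : Upto _ _ 0 (0 + 2 ^ 11))
    ((Upto.of_pow relChk10_c1 (Nat.le_refl _)) : Upto _ _ 2048 (2048 + 2 ^ 11)))
    (by decide) (by decide)

theorem rel10 : ∀ u, u < 3510 → trace (wordTabs tabs [(.b, true), (.c, true), (.b, true), (.c, true), (.b, true), (.c, true)]) u = u :=
  trace_of_fixStep (ts := [T3, T2, T3, T2, T3, T2]) relChk10

theorem relChk11_c0 : allPow 3510 (fixStep [T4, T2, T4, T2]) 11 0 = true := by decide +kernel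
theorem relChk11_c1 : allPow 3510 (fixStep [T4, T2, T4, T2]) 11 2048 = true := by decide +kernel
theorem relChk11 : allBelow 12 3510 (fixStep [T4, T2, T4, T2]) = true :=
  allBelow_of_upto (hi := 4096)
    (Upto.trans (mid := 2048) ((Upto.of_pow relChk11_c0 (Nat.le_refl _)) : Upto _ _ 0 (0 + 2 ^ 11))
    ((Upto.of_pow relChk11_c1 (Nat.le_refl _)) : Upto _ _ 2048 (2048 + 2 ^ 11)))
    (by decide) (by decide)

theorem rel11 : ∀ u, u < 3510 → trace (wordTabs tabs [(.b, true), (.d, true), (.b, true), (.d, true)]) u = u :=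
  trace_of_fixStep (ts := [T4, T2, T4, T2]) relChk11

theorem relChk12_c0 : allPow 3510 (fixStep [T5, T2, T5, T2]) 11 0 = true := by decide +kernel
theorem relChk12_c1 : allPow 3510 (fixStep [T5, T2, T5, T2]) 11 2048 = true := by decide +kernel
theorem relChk12 : allBelow 12 3510 (fixStep [T5, T2, T5, T2]) = true :=
  allBelow_of_upto (hi := 4096)
    (Upto.trans (mid := 2048) ((Upto.of_pow relChk12_c0 (Nat.le_refl _)) : Upto _ _ 0 (0 + 2 ^ 11))
    ((Upto.of_pow relChk12_c1 (Nat.le_refl _)) : Upto _ _ 2048 (2048 + 2 ^ 11)))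
    (by decide) (by decide)

theorem rel12 : ∀ u, u < 3510 → trace (wordTabs tabs [(.b, true), (.e, true), (.b, true), (.e, true)]) u = u :=
  trace_of_fixStep (ts := [T5, T2, T5, T2]) relChk12

theorem relChk13_c0 : allPow 3510 (fixStep [T6, T2, T6, T2]) 11 0 = true := by decide +kernel
theorem relChk13_c1 : allPow 3510 (fixStep [T6, T2, T6, T2]) 11 2048 = true := by decide +kernel
theorem relChk13 : allBelow 12 3510 (fixStep [T6, T2, T6, T2]) = true :=
  allBelow_of_upto (hi := 4096)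
    (Upto.trans (mid := 2048) ((Upto.of_pow relChk13_c0 (Nat.le_refl _)) : Upto _ _ 0 (0 + 2 ^ 11))
    ((Upto.of_pow relChk13_c1 (Nat.le_refl _)) : Upto _ _ 2048 (2048 + 2 ^ 11)))
    (by decide) (by decide)

theorem rel13 : ∀ u, u < 3510 → trace (wordTabs tabs [(.b, true), (.f, true), (.b, true), (.f, true)]) u = u :=
  trace_of_fixStep (ts := [T6, T2, T6, T2]) relChk13

theorem relChk14_c0 : allPow 3510 (fixStep [T7, T2, T7, T2]) 11 0 = true := by decide +kernel
theorem relChk14_c1 : allPow 3510 (fixStep [T7, T2, T7, T2]) 11 2048 = true := by decide +kernel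
theorem relChk14 : allBelow 12 3510 (fixStep [T7, T2, T7, T2]) = true :=
  allBelow_of_upto (hi := 4096)
    (Upto.trans (mid := 2048) ((Upto.of_pow relChk14_c0 (Nat.le_refl _)) : Upto _ _ 0 (0 + 2 ^ 11))
    ((Upto.of_pow relChk14_c1 (Nat.le_refl _)) : Upto _ _ 2048 (2048 + 2 ^ 11)))
    (by decide) (by decide)

theorem rel14 : ∀ u, u < 3510 → trace (wordTabs tabs [(.b, true), (.g, true), (.b, true), (.g, true)]) u = u :=
  trace_of_fixStep (ts := [T7, T2, T7, T2]) relChk14

theorem relChk15_c0 : allPow 3510 (fixStep [T8, T2, T8, T2]) 11 0 = true := by decide +kernel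
theorem relChk15_c1 : allPow 3510 (fixStep [T8, T2, T8, T2]) 11 2048 = true := by decide +kernel
theorem relChk15 : allBelow 12 3510 (fixStep [T8, T2, T8, T2]) = true :=
  allBelow_of_upto (hi := 4096)
    (Upto.trans (mid := 2048) ((Upto.of_pow relChk15_c0 (Nat.le_refl _)) : Upto _ _ 0 (0 + 2 ^ 11))
    ((Upto.of_pow relChk15_c1 (Nat.le_refl _)) : Upto _ _ 2048 (2048 + 2 ^ 11)))
    (by decide) (by decide)

theorem rel15 : ∀ u, u < 3510 → trace (wordTabs tabs [(.b, true), (.h, true), (.b, true), (.h, true)]) u = u :=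
  trace_of_fixStep (ts := [T8, T2, T8, T2]) relChk15

theorem relChk16_c0 : allPow 3510 (fixStep [T9, T2, T9, T2]) 11 0 = true := by decide +kernel
theorem relChk16_c1 : allPow 3510 (fixStep [T9, T2, T9, T2]) 11 2048 = true := by decide +kernel
theorem relChk16 : allBelow 12 3510 (fixStep [T9, T2, T9, T2]) = true :=
  allBelow_of_upto (hi := 4096)
    (Upto.trans (mid := 2048) ((Upto.of_pow relChk16_c0 (Nat.le_refl _)) : Upto _ _ 0 (0 + 2 ^ 11))
    ((Upto.of_pow relChk16_c1 (Nat.le_refl _)) : Upto _ _ 2048 (2048 + 2 ^ 11)))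
    (by decide) (by decide)

theorem rel16 : ∀ u, u < 3510 → trace (wordTabs tabs [(.b, true), (.i, true), (.b, true), (.i, true)]) u = u :=
  trace_of_fixStep (ts := [T9, T2, T9, T2]) relChk16

theorem relChk17 : allBelow 12 3510 (fixStep [T3, T3]) = true := by decide +kernel

theorem rel17 : ∀ u, u < 3510 → trace (wordTabs tabs [(.c, true), (.c, true)]) u = u :=
  trace_of_fixStep (ts := [T3, T3]) relChk17

theorem relChk18_c0 : allPow 3510 (fixStep [T4, T3, T4, T3, T4, T3]) 11 0 = true := by decide +kernel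
theorem relChk18_c1 : allPow 3510 (fixStep [T4, T3, T4, T3, T4, T3]) 11 2048 = true := by decide +kernel
theorem relChk18 : allBelow 12 3510 (fixStep [T4, T3, T4, T3, T4, T3]) = true :=
  allBelow_of_upto (hi := 4096)
    (Upto.trans (mid := 2048) ((Upto.of_pow relChk18_c0 (Nat.le_refl _)) : Upto _ _ 0 (0 + 2 ^ 11))
    ((Upto.of_pow relChk18_c1 (Nat.le_refl _)) : Upto _ _ 2048 (2048 + 2 ^ 11)))
    (by decide) (by decide)

theorem rel18 : ∀ u, u < 3510 → trace (wordTabs tabs [(.c, true), (.d, true), (.c, true), (.d, true), (.c, true), (.d, true)]) u = u :=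
  trace_of_fixStep (ts := [T4, T3, T4, T3, T4, T3]) relChk18

theorem relChk19_c0 : allPow 3510 (fixStep [T5, T3, T5, T3]) 11 0 = true := by decide +kernel
theorem relChk19_c1 : allPow 3510 (fixStep [T5, T3, T5, T3]) 11 2048 = true := by decide +kernel
theorem relChk19 : allBelow 12 3510 (fixStep [T5, T3, T5, T3]) = true :=
  allBelow_of_upto (hi := 4096)
    (Upto.trans (mid := 2048) ((Upto.of_pow relChk19_c0 (Nat.le_refl _)) : Upto _ _ 0 (0 + 2 ^ 11))
    ((Upto.of_pow relChk19_c1 (Nat.le_refl _)) : Upto _ _ 2048 (2048 + 2 ^ 11)))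
    (by decide) (by decide)

theorem rel19 : ∀ u, u < 3510 → trace (wordTabs tabs [(.c, true), (.e, true), (.c, true), (.e, true)]) u = u :=
  trace_of_fixStep (ts := [T5, T3, T5, T3]) relChk19

theorem relChk20_c0 : allPow 3510 (fixStep [T6, T3, T6, T3]) 11 0 = true := by decide +kernel
theorem relChk20_c1 : allPow 3510 (fixStep [T6, T3, T6, T3]) 11 2048 = true := by decide +kernel
theorem relChk20 : allBelow 12 3510 (fixStep [T6, T3, T6, T3]) = true :=
  allBelow_of_upto (hi := 4096)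
    (Upto.trans (mid := 2048) ((Upto.of_pow relChk20_c0 (Nat.le_refl _)) : Upto _ _ 0 (0 + 2 ^ 11))
    ((Upto.of_pow relChk20_c1 (Nat.le_refl _)) : Upto _ _ 2048 (2048 + 2 ^ 11)))
    (by decide) (by decide)

theorem rel20 : ∀ u, u < 3510 → trace (wordTabs tabs [(.c, true), (.f, true), (.c, true), (.f, true)]) u = u :=
  trace_of_fixStep (ts := [T6, T3, T6, T3]) relChk20

theorem relChk21_c0 : allPow 3510 (fixStep [T7, T3, T7, T3]) 11 0 = true := by decide +kernel
theorem relChk21_c1 : allPow 3510 (fixStep [T7, T3, T7, T3]) 11 2048 = true := by decide +kernel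
theorem relChk21 : allBelow 12 3510 (fixStep [T7, T3, T7, T3]) = true :=
  allBelow_of_upto (hi := 4096)
    (Upto.trans (mid := 2048) ((Upto.of_pow relChk21_c0 (Nat.le_refl _)) : Upto _ _ 0 (0 + 2 ^ 11))
    ((Upto.of_pow relChk21_c1 (Nat.le_refl _)) : Upto _ _ 2048 (2048 + 2 ^ 11)))
    (by decide) (by decide)

theorem rel21 : ∀ u, u < 3510 → trace (wordTabs tabs [(.c, true), (.g, true), (.c, true), (.g, true)]) u = u :=
  trace_of_fixStep (ts := [T7, T3, T7, T3]) relChk21

theorem relChk22_c0 : allPow 3510 (fixStep [T8, T3, T8, T3]) 11 0 = true := by decide +kernel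
theorem relChk22_c1 : allPow 3510 (fixStep [T8, T3, T8, T3]) 11 2048 = true := by decide +kernel
theorem relChk22 : allBelow 12 3510 (fixStep [T8, T3, T8, T3]) = true :=
  allBelow_of_upto (hi := 4096)
    (Upto.trans (mid := 2048) ((Upto.of_pow relChk22_c0 (Nat.le_refl _)) : Upto _ _ 0 (0 + 2 ^ 11))
    ((Upto.of_pow relChk22_c1 (Nat.le_refl _)) : Upto _ _ 2048 (2048 + 2 ^ 11)))
    (by decide) (by decide)

theorem rel22 : ∀ u, u < 3510 → trace (wordTabs tabs [(.c, true), (.h, true), (.c, true), (.h, true)]) u = u :=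
  trace_of_fixStep (ts := [T8, T3, T8, T3]) relChk22

theorem relChk23_c0 : allPow 3510 (fixStep [T9, T3, T9, T3]) 11 0 = true := by decide +kernel
theorem relChk23_c1 : allPow 3510 (fixStep [T9, T3, T9, T3]) 11 2048 = true := by decide +kernel
theorem relChk23 : allBelow 12 3510 (fixStep [T9, T3, T9, T3]) = true :=
  allBelow_of_upto (hi := 4096)
    (Upto.trans (mid := 2048) ((Upto.of_pow relChk23_c0 (Nat.le_refl _)) : Upto _ _ 0 (0 + 2 ^ 11))
    ((Upto.of_pow relChk23_c1 (Nat.le_refl _)) : Upto _ _ 2048 (2048 + 2 ^ 11)))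
    (by decide) (by decide)

theorem rel23 : ∀ u, u < 3510 → trace (wordTabs tabs [(.c, true), (.i, true), (.c, true), (.i, true)]) u = u :=
  trace_of_fixStep (ts := [T9, T3, T9, T3]) relChk23

theorem relChk24 : allBelow 12 3510 (fixStep [T4, T4]) = true := by decide +kernel

theorem rel24 : ∀ u, u < 3510 → trace (wordTabs tabs [(.d, true), (.d, true)]) u = u :=
  trace_of_fixStep (ts := [T4, T4]) relChk24

theorem relChk25_c0 : allPow 3510 (fixStep [T5, T4, T5, T4, T5, T4]) 11 0 = true := by decide +kernel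
theorem relChk25_c1 : allPow 3510 (fixStep [T5, T4, T5, T4, T5, T4]) 11 2048 = true := by decide +kernel
theorem relChk25 : allBelow 12 3510 (fixStep [T5, T4, T5, T4, T5, T4]) = true :=
  allBelow_of_upto (hi := 4096)
    (Upto.trans (mid := 2048) ((Upto.of_pow relChk25_c0 (Nat.le_refl _)) : Upto _ _ 0 (0 + 2 ^ 11))
    ((Upto.of_pow relChk25_c1 (Nat.le_refl _)) : Upto _ _ 2048 (2048 + 2 ^ 11)))
    (by decide) (by decide)

theorem rel25 : ∀ u, u < 3510 → trace (wordTabs tabs [(.d, true), (.e, true), (.d, true), (.e, true), (.d, true), (.e, true)]) u = u :=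
  trace_of_fixStep (ts := [T5, T4, T5, T4, T5, T4]) relChk25

theorem relChk26_c0 : allPow 3510 (fixStep [T6, T4, T6, T4]) 11 0 = true := by decide +kernel
theorem relChk26_c1 : allPow 3510 (fixStep [T6, T4, T6, T4]) 11 2048 = true := by decide +kernel
theorem relChk26 : allBelow 12 3510 (fixStep [T6, T4, T6, T4]) = true :=
  allBelow_of_upto (hi := 4096)
    (Upto.trans (mid := 2048) ((Upto.of_pow relChk26_c0 (Nat.le_refl _)) : Upto _ _ 0 (0 + 2 ^ 11))
    ((Upto.of_pow relChk26_c1 (Nat.le_refl _)) : Upto _ _ 2048 (2048 + 2 ^ 11)))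
    (by decide) (by decide)

theorem rel26 : ∀ u, u < 3510 → trace (wordTabs tabs [(.d, true), (.f, true), (.d, true), (.f, true)]) u = u :=
  trace_of_fixStep (ts := [T6, T4, T6, T4]) relChk26

theorem relChk27_c0 : allPow 3510 (fixStep [T7, T4, T7, T4]) 11 0 = true := by decide +kernel
theorem relChk27_c1 : allPow 3510 (fixStep [T7, T4, T7, T4]) 11 2048 = true := by decide +kernel
theorem relChk27 : allBelow 12 3510 (fixStep [T7, T4, T7, T4]) = true :=
  allBelow_of_upto (hi := 4096)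
    (Upto.trans (mid := 2048) ((Upto.of_pow relChk27_c0 (Nat.le_refl _)) : Upto _ _ 0 (0 + 2 ^ 11))
    ((Upto.of_pow relChk27_c1 (Nat.le_refl _)) : Upto _ _ 2048 (2048 + 2 ^ 11)))
    (by decide) (by decide)

theorem rel27 : ∀ u, u < 3510 → trace (wordTabs tabs [(.d, true), (.g, true), (.d, true), (.g, true)]) u = u :=
  trace_of_fixStep (ts := [T7, T4, T7, T4]) relChk27

theorem relChk28_c0 : allPow 3510 (fixStep [T8, T4, T8, T4, T8, T4]) 11 0 = true := by decide +kernel
theorem relChk28_c1 : allPow 3510 (fixStep [T8, T4, T8, T4, T8, T4]) 11 2048 = true := by decide +kernel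
theorem relChk28 : allBelow 12 3510 (fixStep [T8, T4, T8, T4, T8, T4]) = true :=
  allBelow_of_upto (hi := 4096)
    (Upto.trans (mid := 2048) ((Upto.of_pow relChk28_c0 (Nat.le_refl _)) : Upto _ _ 0 (0 + 2 ^ 11))
    ((Upto.of_pow relChk28_c1 (Nat.le_refl _)) : Upto _ _ 2048 (2048 + 2 ^ 11)))
    (by decide) (by decide)

theorem rel28 : ∀ u, u < 3510 → trace (wordTabs tabs [(.d, true), (.h, true), (.d, true), (.h, true), (.d, true), (.h, true)]) u = u :=
  trace_of_fixStep (ts := [T8, T4, T8, T4, T8, T4]) relChk28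

theorem relChk29_c0 : allPow 3510 (fixStep [T9, T4, T9, T4]) 11 0 = true := by decide +kernel
theorem relChk29_c1 : allPow 3510 (fixStep [T9, T4, T9, T4]) 11 2048 = true := by decide +kernel
theorem relChk29 : allBelow 12 3510 (fixStep [T9, T4, T9, T4]) = true :=
  allBelow_of_upto (hi := 4096)
    (Upto.trans (mid := 2048) ((Upto.of_pow relChk29_c0 (Nat.le_refl _)) : Upto _ _ 0 (0 + 2 ^ 11))
    ((Upto.of_pow relChk29_c1 (Nat.le_refl _)) : Upto _ _ 2048 (2048 + 2 ^ 11)))
    (by decide) (by decide)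

theorem rel29 : ∀ u, u < 3510 → trace (wordTabs tabs [(.d, true), (.i, true), (.d, true), (.i, true)]) u = u :=
  trace_of_fixStep (ts := [T9, T4, T9, T4]) relChk29

theorem relChk30 : allBelow 12 3510 (fixStep [T5, T5]) = true := by decide +kernel

theorem rel30 : ∀ u, u < 3510 → trace (wordTabs tabs [(.e, true), (.e, true)]) u = u :=
  trace_of_fixStep (ts := [T5, T5]) relChk30

theorem relChk31_c0 : allPow 3510 (fixStep [T6, T5, T6, T5, T6, T5]) 11 0 = true := by decide +kernel
theorem relChk31_c1 : allPow 3510 (fixStep [T6, T5, T6, T5, T6, T5]) 11 2048 = true := by decide +kernel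
theorem relChk31 : allBelow 12 3510 (fixStep [T6, T5, T6, T5, T6, T5]) = true :=
  allBelow_of_upto (hi := 4096)
    (Upto.trans (mid := 2048) ((Upto.of_pow relChk31_c0 (Nat.le_refl _)) : Upto _ _ 0 (0 + 2 ^ 11))
    ((Upto.of_pow relChk31_c1 (Nat.le_refl _)) : Upto _ _ 2048 (2048 + 2 ^ 11)))
    (by decide) (by decide)

theorem rel31 : ∀ u, u < 3510 → trace (wordTabs tabs [(.e, true), (.f, true), (.e, true), (.f, true), (.e, true), (.f, true)]) u = u :=
  trace_of_fixStep (ts := [T6, T5, T6, T5, T6, T5]) relChk31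

theorem relChk32_c0 : allPow 3510 (fixStep [T7, T5, T7, T5]) 11 0 = true := by decide +kernel
theorem relChk32_c1 : allPow 3510 (fixStep [T7, T5, T7, T5]) 11 2048 = true := by decide +kernel
theorem relChk32 : allBelow 12 3510 (fixStep [T7, T5, T7, T5]) = true :=
  allBelow_of_upto (hi := 4096)
    (Upto.trans (mid := 2048) ((Upto.of_pow relChk32_c0 (Nat.le_refl _)) : Upto _ _ 0 (0 + 2 ^ 11))
    ((Upto.of_pow relChk32_c1 (Nat.le_refl _)) : Upto _ _ 2048 (2048 + 2 ^ 11)))
    (by decide) (by decide)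

theorem rel32 : ∀ u, u < 3510 → trace (wordTabs tabs [(.e, true), (.g, true), (.e, true), (.g, true)]) u = u :=
  trace_of_fixStep (ts := [T7, T5, T7, T5]) relChk32

theorem relChk33_c0 : allPow 3510 (fixStep [T8, T5, T8, T5]) 11 0 = true := by decide +kernel
theorem relChk33_c1 : allPow 3510 (fixStep [T8, T5, T8, T5]) 11 2048 = true := by decide +kernel
theorem relChk33 : allBelow 12 3510 (fixStep [T8, T5, T8, T5]) = true :=
  allBelow_of_upto (hi := 4096)
    (Upto.trans (mid := 2048) ((Upto.of_pow relChk33_c0 (Nat.le_refl _)) : Upto _ _ 0 (0 + 2 ^ 11))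
    ((Upto.of_pow relChk33_c1 (Nat.le_refl _)) : Upto _ _ 2048 (2048 + 2 ^ 11)))
    (by decide) (by decide)

theorem rel33 : ∀ u, u < 3510 → trace (wordTabs tabs [(.e, true), (.h, true), (.e, true), (.h, true)]) u = u :=
  trace_of_fixStep (ts := [T8, T5, T8, T5]) relChk33

theorem relChk34_c0 : allPow 3510 (fixStep [T9, T5, T9, T5]) 11 0 = true := by decide +kernel
theorem relChk34_c1 : allPow 3510 (fixStep [T9, T5, T9, T5]) 11 2048 = true := by decide +kernel
theorem relChk34 : allBelow 12 3510 (fixStep [T9, T5, T9, T5]) = true :=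
  allBelow_of_upto (hi := 4096)
    (Upto.trans (mid := 2048) ((Upto.of_pow relChk34_c0 (Nat.le_refl _)) : Upto _ _ 0 (0 + 2 ^ 11))
    ((Upto.of_pow relChk34_c1 (Nat.le_refl _)) : Upto _ _ 2048 (2048 + 2 ^ 11)))
    (by decide) (by decide)

theorem rel34 : ∀ u, u < 3510 → trace (wordTabs tabs [(.e, true), (.i, true), (.e, true), (.i, true)]) u = u :=
  trace_of_fixStep (ts := [T9, T5, T9, T5]) relChk34

theorem relChk35 : allBelow 12 3510 (fixStep [T6, T6]) = true := by decide +kernel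

theorem rel35 : ∀ u, u < 3510 → trace (wordTabs tabs [(.f, true), (.f, true)]) u = u :=
  trace_of_fixStep (ts := [T6, T6]) relChk35

theorem relChk36_c0 : allPow 3510 (fixStep [T7, T6, T7, T6, T7, T6]) 11 0 = true := by decide +kernel
theorem relChk36_c1 : allPow 3510 (fixStep [T7, T6, T7, T6, T7, T6]) 11 2048 = true := by decide +kernel
theorem relChk36 : allBelow 12 3510 (fixStep [T7, T6, T7, T6, T7, T6]) = true :=
  allBelow_of_upto (hi := 4096)
    (Upto.trans (mid := 2048) ((Upto.of_pow relChk36_c0 (Nat.le_refl _)) : Upto _ _ 0 (0 + 2 ^ 11))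
    ((Upto.of_pow relChk36_c1 (Nat.le_refl _)) : Upto _ _ 2048 (2048 + 2 ^ 11)))
    (by decide) (by decide)

theorem rel36 : ∀ u, u < 3510 → trace (wordTabs tabs [(.f, true), (.g, true), (.f, true), (.g, true), (.f, true), (.g, true)]) u = u :=
  trace_of_fixStep (ts := [T7, T6, T7, T6, T7, T6]) relChk36

theorem relChk37_c0 : allPow 3510 (fixStep [T8, T6, T8, T6]) 11 0 = true := by decide +kernel
theorem relChk37_c1 : allPow 3510 (fixStep [T8, T6, T8, T6]) 11 2048 = true := by decide +kernel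
theorem relChk37 : allBelow 12 3510 (fixStep [T8, T6, T8, T6]) = true :=
  allBelow_of_upto (hi := 4096)
    (Upto.trans (mid := 2048) ((Upto.of_pow relChk37_c0 (Nat.le_refl _)) : Upto _ _ 0 (0 + 2 ^ 11))
    ((Upto.of_pow relChk37_c1 (Nat.le_refl _)) : Upto _ _ 2048 (2048 + 2 ^ 11)))
    (by decide) (by decide)

theorem rel37 : ∀ u, u < 3510 → trace (wordTabs tabs [(.f, true), (.h, true), (.f, true), (.h, true)]) u = u :=
  trace_of_fixStep (ts := [T8, T6, T8, T6]) relChk37

theorem relChk38_c0 : allPow 3510 (fixStep [T9, T6, T9, T6]) 11 0 = true := by decide +kernel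
theorem relChk38_c1 : allPow 3510 (fixStep [T9, T6, T9, T6]) 11 2048 = true := by decide +kernel
theorem relChk38 : allBelow 12 3510 (fixStep [T9, T6, T9, T6]) = true :=
  allBelow_of_upto (hi := 4096)
    (Upto.trans (mid := 2048) ((Upto.of_pow relChk38_c0 (Nat.le_refl _)) : Upto _ _ 0 (0 + 2 ^ 11))
    ((Upto.of_pow relChk38_c1 (Nat.le_refl _)) : Upto _ _ 2048 (2048 + 2 ^ 11)))
    (by decide) (by decide)

theorem rel38 : ∀ u, u < 3510 → trace (wordTabs tabs [(.f, true), (.i, true), (.f, true), (.i, true)]) u = u :=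
  trace_of_fixStep (ts := [T9, T6, T9, T6]) relChk38

theorem relChk39 : allBelow 12 3510 (fixStep [T7, T7]) = true := by decide +kernel

theorem rel39 : ∀ u, u < 3510 → trace (wordTabs tabs [(.g, true), (.g, true)]) u = u :=
  trace_of_fixStep (ts := [T7, T7]) relChk39

theorem relChk40_c0 : allPow 3510 (fixStep [T8, T7, T8, T7]) 11 0 = true := by decide +kernel
theorem relChk40_c1 : allPow 3510 (fixStep [T8, T7, T8, T7]) 11 2048 = true := by decide +kernel
theorem relChk40 : allBelow 12 3510 (fixStep [T8, T7, T8, T7]) = true :=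
  allBelow_of_upto (hi := 4096)
    (Upto.trans (mid := 2048) ((Upto.of_pow relChk40_c0 (Nat.le_refl _)) : Upto _ _ 0 (0 + 2 ^ 11))
    ((Upto.of_pow relChk40_c1 (Nat.le_refl _)) : Upto _ _ 2048 (2048 + 2 ^ 11)))
    (by decide) (by decide)

theorem rel40 : ∀ u, u < 3510 → trace (wordTabs tabs [(.g, true), (.h, true), (.g, true), (.h, true)]) u = u :=
  trace_of_fixStep (ts := [T8, T7, T8, T7]) relChk40

theorem relChk41_c0 : allPow 3510 (fixStep [T9, T7, T9, T7]) 11 0 = true := by decide +kernel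
theorem relChk41_c1 : allPow 3510 (fixStep [T9, T7, T9, T7]) 11 2048 = true := by decide +kernel
theorem relChk41 : allBelow 12 3510 (fixStep [T9, T7, T9, T7]) = true :=
  allBelow_of_upto (hi := 4096)
    (Upto.trans (mid := 2048) ((Upto.of_pow relChk41_c0 (Nat.le_refl _)) : Upto _ _ 0 (0 + 2 ^ 11))
    ((Upto.of_pow relChk41_c1 (Nat.le_refl _)) : Upto _ _ 2048 (2048 + 2 ^ 11)))
    (by decide) (by decide)

theorem rel41 : ∀ u, u < 3510 → trace (wordTabs tabs [(.g, true), (.i, true), (.g, true), (.i, true)]) u = u :=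
  trace_of_fixStep (ts := [T9, T7, T9, T7]) relChk41

theorem relChk42 : allBelow 12 3510 (fixStep [T8, T8]) = true := by decide +kernel

theorem rel42 : ∀ u, u < 3510 → trace (wordTabs tabs [(.h, true), (.h, true)]) u = u :=
  trace_of_fixStep (ts := [T8, T8]) relChk42

theorem relChk43_c0 : allPow 3510 (fixStep [T9, T8, T9, T8, T9, T8]) 11 0 = true := by decide +kernel
theorem relChk43_c1 : allPow 3510 (fixStep [T9, T8, T9, T8, T9, T8]) 11 2048 = true := by decide +kernel
theorem relChk43 : allBelow 12 3510 (fixStep [T9, T8, T9, T8, T9, T8]) = true :=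
  allBelow_of_upto (hi := 4096)
    (Upto.trans (mid := 2048) ((Upto.of_pow relChk43_c0 (Nat.le_refl _)) : Upto _ _ 0 (0 + 2 ^ 11))
    ((Upto.of_pow relChk43_c1 (Nat.le_refl _)) : Upto _ _ 2048 (2048 + 2 ^ 11)))
    (by decide) (by decide)

theorem rel43 : ∀ u, u < 3510 → trace (wordTabs tabs [(.h, true), (.i, true), (.h, true), (.i, true), (.h, true), (.i, true)]) u = u :=
  trace_of_fixStep (ts := [T9, T8, T9, T8, T9, T8]) relChk43

theorem relChk44 : allBelow 12 3510 (fixStep [T9, T9]) = true := by decide +kernel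

theorem rel44 : ∀ u, u < 3510 → trace (wordTabs tabs [(.i, true), (.i, true)]) u = u :=
  trace_of_fixStep (ts := [T9, T9]) relChk44

def B45Lit : Nat := 0xb16d45d25a7ac15a2cbc4a2ace6b6cb74d6eb5fd6dd9eda4ce9ce7b77a21a25b8ebc6da5b87d87d9bb31bfcd95da0b6dd49d4cc93c60c13c40d99cd2cccc1ab1d92fdb2d58c46d90c49b1fd29681d288a5d7ad8cc14c61ad0a71adbc3cb24db1a81a96d00d63d61b1bd91d81d8dd59d5ab0eb0491cc95c65932a47c106e0c3e8e7d8fb14b1ec4cc55830cd5d1cd73ad3863c16d67d51d89d66949a98b1ccfbd48d07d47cfed2cbf2bf1d9ddaa828d88840a16c45b5ab3cbc3b37cb8da2b717bfb8cb4cd4aa38bee74acb75c07c0d98c04c7e9f7d43cedd22d38cafbfed947f3b70b8f5bec797b2b6fd02c41b2f9e5d4b8599d6ce4d97c6abf49d8cbf97e755b5b74e747cf9cf6a12c227b3d44c357508b2d17d04b26bedbefb1ad9c9a4824db09de83a99e94f83d618a187ea9fdcefbfac2d809a23954a17b757ff748c21c81c5e7f49cf77fb32d9fda3b7ab73858805993a1f9b69f4c809a3b7ea708f7a4ac9ca3fa4db29c48c69d5ed8573ac4fbf7d0d7409488db70dd147588ab915b638ad942c92d6a8bec6376ba42d69933bf6ce1a726de9038f9a51c1994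1b01af98fe8a4675918bf5506c1b6dfce2936cbbb438e0ba88a0834d57724c99d509e2cb5a77be4d71b6470bb18a97d1090dba3bd9a6f8f0b60cf3ce38e5a73776d0ec7cbb7b938fac3d8d8934c00d0972167f900a5e6796729a8b0ba4c8b5b3e6776d6a648e9b5067ad6b6ce908abd7dc789d939eba2e797be9d5c8b7a1bbfb8a2d15d188ded3f82e89dd4267c753be6919bb38fcb3f7fd909b4868271fd1b8629179c0d05717d1ad2182bcd87c37e3b8270cd2ed3e935d34bf3b9682fa7da75da671bd0ad3cd5f6e4bab7a1a83c82970d6c6bebccc4e947a5d80ba30c0da6eb65b91cf19f6abb65f73b90786d9d9a19b069a0c6fd74857a337e1b3363fb76c78cbc7b6d7ddb4a377b79ab7e7852b80951bc5cf4da1b307c9814957cba6a1d55b7c83cc88c31cb6af09238077fcd547b9b35d929b8cf79f5b8d8027b1c8981fc26488d6fb38c9bc335c4844ad8a488809f97e5d827ad74cbdb64f88da57cf0d9a9798e3adf976c54bc7a66c86ca4a15c6c816cc0d5dbbd7f1d8ec34c7f7ed972d7e821ceeabac5974b7feb58c7483ed4f64cd76803cb0510d78472d726738a79a695380a7bdcbe5b6ca17049657ebd83476caebfd60c7258105c39b48156fcb2e6b7b218ead248d06c1507af6a2b7bed11aa0848b09c9ec7dc7a745626ca05bacb9d7566bd7b9dba45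7879fb715718812c5a5bfd77d79689d4dae0697d7c87cb5e6e2700c9895c690c6eb946fdb0271da9c746c83d5b46dd8abad61bc2f86c6c9c0f61dbacd53ce55ffc3f78eb6ac5295f6e5722c5bb2796ec53c685d7661c068f581a9b1c8cc64660ca680fc0e6e9c876b8519c508d9c1d91bc0589ed37dadc1193db9e944a3bbb0a78cd9be3562c2e940d2dcd48a9703da7a8685face796c4acdca399f37db72c9215e9af2aa2bf8d3da80cd6dae82cd16523d336dacdfb2a8b4c4db466916e6a94da9bd35f0d329f0866d1d786dab9e950a9b3cde6839d4c8d7948f8d0f55ed3055ad3b811ae7b3a79e75c42c5b09be640c44be587babcb599dacc48e1ad2d96bd7d19da8ac4d0c78fdaf707d0196a64d738c42c27676d20cf85c9d405e3d41627527d3aaa8a24aaa5b3af85b78a3bec720bdd515d06cf2639c8e51dbaa46b9cd81cb0cb5c650484cb1a27509b44ce872da82a36a9950ba26c767d9406ad4b23450c285bc92dbd599b766c02d1f5c6d2383b3c0d35c708dacc3a1abffcdd8fba3d647c778c153ed2ba679dcae6790a63ac6465a88d1e823a9b72e635cca90f649b7d52ed31b0a971ab1bbc785a74565c66b36c36b4e6bac9077476fcc561ca4484dcc7775cb38468965ea9b559eaf7b19b25731c0a7a5b8ac676ec651bdacb4b28bb18bf8cd9eaa4e6139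635d2c095fc91fc43b6ec71b3bd4eca5b2bd86854d64d56600a2fb4bdb56926224dcc20ca8c737a9d605f8d808e4d68c4b6c0ccfc946c2c29cff6fbd123833d496d76dbd275f99ccabcbd609d7fbbf4b2cada32ae4937cc87a74dab9d53c93bd65b618efbe74d4bb2a498e8cd3c2c5c1ba262abbe4e1620d84a02ba0729b72605b348bb3c63af79268c7a8743ba938836bcac586cea709aeecdaa5cbb67e6ca7cc1841d62c01467ab65acac245bc6b590bb97ccce05cccc2b51bcb3be9c8bc99a1928b459a5c18500af568bd70ae23cdc475d199590566a7808cc732cce57c980bc08eb92acd0c3ad036bcceb454bb8629b3d6659baa28c5d503afa6eabd6480d8b9b2751acdb998695d0ab9a9eb0fc2bd135d8974bcd8f29699e1868d27619c8473965737eb7b8183bab2d92ea09875b905f1b815f64a1ad1a3ec07548c30547b6bb5754b9d1a84b678277a6695a9dadd42f87366d842533956bcf7348b0c0c9f1c8bd266cbc1e879ba4594c51883cc6b207d66239ee9385779ed898ac851cac09d59bf583c75b62d2ad0b888d39551dac4c0c8a4b957e996cf52ef98d57842d9cb69bbf977ed36b05c3261e68fa2da3ab68c58bc15d6603c085aac1cac384ba5f48697758dbd8572d2fab8ac7ad6aa47616b6cec99a6cd4e568d861af4b5da65af17606dcab4950aa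9897cd14df401c1f8c4429a95ab5901aa65013d1beb95a6bd6cfaaf324a0a688a413caaea57330e9665796d05a3a79be1a8f63cbc8872d465d5ba5c2ab109b79bd57447db9a9a2b95526a60ae89e0a56ad76e8a548c8ad52eaa4bbe8461ccdaef9dd3b99257f0cfa79b808c726b13d5d083d98b8ac97ecabe91dccbb114b52e7c9185c5a18b6bea319cc9916b008ae9ca3b4ca975799984ccfd777ad97f2c855615cbc9725a73e6e7c8f7548368506a8cdb9882ca9bc7c5851cfc8ed84e8dca6ca598ba981a69ada8bdb9f9984d699096187ab86ae59b9aab45d82ac6d3398766a4ade69eaf365bb22c0b556c12628bbb55562e4cfa7fa318ec9c58ee40e7d8bb49979c24c3b834f28dd8855d4ac1762a1c6bbdb3b4988ebb543556d939aa75e0bd4a76b078cb47b4bc4383669ce7d05914d0b4dc9aa62a06b4f428aa558788793077d943c5c986c1788f432362b7994b9c169da6a380b2cc7b9319af9d2423893b158995edacf8569efa6191a61575e6b0bbaa222cb86594d7ce5998209919ad2a4c5facc86794a9e486ea1eaa160e90c4fb87050e92975241126397d77b4e8978c963b5b7fcaa90bb478b33188caafb89f8c0c568539e38dfaca95947c1e268585ecb29739e75a86f982db176c5b9b1f8b0dafc7c178b51bba1b4aa0d1e17119c4779625ca299481d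9ff78459fbde680c376a9bae3b19e84af566664baf67d49fc3ba6d88954a4558b96e3c387eea55c397e27c29d79ec38b7999bb91e891aae96ba34a8d54c7e963d40384a6a378cb97abf75bb393a9a5a2cd76a9623db87d451c9d330ca389a458334aac8d52df97b80c93c8c2a896f89d384756fa8a56838e2d68c585d8cf63ab92424983a8cc25a4fab737fb088ce99f63293fae1975a5343a56aafd90224c7828826f275dc62a3cbca96443e7d499da0379a9cc6945fec57a527a024ab7873c85a538c9fa87ba683868e65d7a3a109f2773822420bdc96792642b60478185ba2973544d952b849c778883387f37b9226166114a466e6866243ccab08af67b17d6448d26ad78ad526d7bdf81362198c7d39f8b667709c631583740b4e95c2b54877b9c631a133358f4a0b9fa312be0832a504056366428c3a14894a1dc034e4b5277c8788e6a434b4ab27727efb5696c5768bc3a0b53518b5586b791bcea8ea9a8844f96679a97837018d74ad193bd079c6f68c71943262087d14a65ad5375355405f3a4095d9a75ae9604aa27c18aa7e6f35e796f21ca35b8ba117aa21bb85a057de57b6c687e7239877cf52d8d45316e14226d56dd4eb4bea019b09fc1d4a7c66677a693a917af989b414efa85a087d7ae384fb8837c9929ae80438758b6b3795be2945a206f59043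7998bb42958382595a7b663bf098450f83f59b8f168a946ae986f4fc82555392b80dbc28609aa60b4741306ee3fc6c82ec2eb6cc1d745f4bf4f528581ea007b836a6b458a7dacd76124839c988ca6861f67e74d97f431a58471aa3a0c7f67376b9658aeb7494fd7f7580913475b12a5b78d3f794c968b6970825e7c495b6a587493e8455a998a2873c398e5585a65ab54f33a5db47976c7651ff6683fa43c5a43ff31b34228a3c870a6d11a73201417056387e048133276977886a97c6ed5223a62a0b988061339557f962d39ebd18b1a929113a38a1a8b9068f36078ff4d34a928b5de28c5e173f52537517e62b5715752e5ba78398ac2ee60f97a5a2a076d359cb899829df4f67368928aa3ae7594d8aec3d09245d372a88ba467cdac54deafe29b7568e2aed8552d073d3505f7acb2062e86d45604a83941756625e43841aa5e53854d25c727b7ac3c97b55708957338fd26e7125fac236c38c9ab35bb2e28817c790e60d39a920c245982e470f93a5f295e6ab4c2466a6b4c15cf2ae22e34f2ab22b34c6aa45a3d7adc5fb8d33ec35f6743605857064a23e53174705af4b03143d87df5a54a57685ee29e5dc2a67e42a73bc63b4ac4ed4f435828f2b17d50d528e7fa6962035da4f16a6a9f61a3783a532c7bc1a8a9391271c1f76ae864710b137ba64ab037ae7f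55e26172f42de4276d231d3686d831e54e56e2887b024f55430474229f75a47f985aad74f64e9d055c90a608a905bd92c65c1ed6845b45c592765441f9c34593cf5509e643f2018c65df4262dd5392f02f12f320c20d61438926179f0f55812fa6983ac69943d1e66ef89b5dd3d39147a43fe64353a3bf9ac5634467c62e9441514b4056b5303597714a01e38712e672649049c6fe1583ea2b02476f41592bf1b92c72332295433573432bd76e21176447a48a8d65ef3b32844f033749e4b64e314e1001554f77136307d249b31c3476694965365056ff48b1505203f250d4fa4021ab32114d4404d57023ce2ce6ac8177c846c4c42605b14097ca41a3027bb98f8195a08f65f5a0e55da047934196594486ca45c0f32782912903224cc5324cd7cb26b79d5677a24076d94f8138512670655aff8863f98d165e21732f83530c3003f332e8316f02fc1957e83613c76af2f552f4c92fe17826a2683072672663092f715169a4331fb4d95ec32389c60152c4211f060681b2ff33625b6eb26255b44925c94e37d5f46a740f51a3e73e158f57d2c43f15443ed2b258c6a23f42b41b01234954ff16c2b91141532ba34d3e02b51b26b54001423a45827dd5344893c28493eb47e2145b522f2c87442993333ad2d40ac3b746059763e6523113bd3b830d2a569f21316f6f1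29a5a72c610324d7632864365642e06b27193293724573c57414376bf4104bb8a8716a0f6db35c7f871e8266fa1fa1eb4cb4c54c867819b44a0f913141240c7ab3c42d370e7301092156873a74825295599fe5924ee10a50418921e50c4ce3255fd28348526438f18c12b15229541b3912650c630a5e63a179817f7b437a52435d48718d4b33cb25f4ba5ca3f625d3641b434949734b4e080e23f4ea2441b709a2ad54533e2aa34659d1c821f3451c426f3550bc23224115a3f534e26c5216a03164632b632a64684353d28253f4645b252a2185b908a20f24336745e20551346a1fc1a059a29d27f5934db6f752821018344f0d03764561cc38c58435e41c1e45118906411823744152974b78a64ca25266f8014784b19104e656c7273993272552582db2a11a42091db2742bb4b888a6336c708b5b826d28072b3651a227035339c2021402722761e90c52a23ab1ea39619053b4ab5524733772732a31e51742e317b0f462f64822c43933d35122822649264b0df1211b648c65a0e810f49a23e3da4993e649d49844b0e93540b71ac12016d2be48f2271926374693525d92934081985174e742e7674772946533aa19a1100ce3a814a4421081254474346715cd52b0f75021a935a65628927a1ee62c2fb2cf24b13e5f92d160238d7fb2964161de1e836e32d40d8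2958861020066c2d55ce41441841d44506e36c1391968004a32163d246e5690a82450ab0fd13c10c13a37332b1e73056c42e12590f013d0c41271d312c0c322a3e344c54639511515d71a3f03483ee3ef4f33402562420da15f0e71f123023a2c554164507d3dc16e22434122d1671242c20e21b31132211c21112202c95e819f24071414610139b38a51e46f2cc5eb2076343901a31bd19d0c73080a72507283b23033384dd4ec13741e12e1d223b12f5081322f91a61855c851f3713283934c714372f3fb3c14bd1443702d90d41f251660a14f2040561fe0882c00a021918112a1d91f43fd1d11df27924e09d1f51714ae5492af1643a23de1192d82b72bc4935961b13df1b85421c007c1603980641ca09515b3e433c1c72233e81c10961cd0990dc0ae15710e1c53b039d10727d5892f623420b1d869c31343043b1dc2da20a18e18657f58e1ec2d209f2490ef57a3630c118f3d61361800d645210241325746855f1972394c60863100cf0ff03a1913bb0fb09e0ed08117c1705571d540a4044fe2c10e616b4942371ba44411648e2ac34a2381170b51bb0bb0eb48d4911221b504e1af07a23c30f24608e1c921214730145313417936d19c4d74e22513924430f83f81721d607f1d042a21a0c90f20ad2533311ef29841728108919903b27e0a50cb31f31a1d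a07e18812d54d3693061c30d81c63560bd0e10e01613e23e915c1be1620782a90b60de03315634416815411a1650d344e0d230b0f639f2f839735b0f12540801e01261733863810552d714c0fa10b14513f06b0cd0211fd46228d17636f4a70ba33b0731cb09b2c32351bc22507b15e0352220930b22b82b30722a80b927519e06d0a11f91841dd2480c017706517a4d12ed1a518706a0a606c0fc1490a32923b62dc16910d04104c11f0ea1181120610b401c1ae3dd23111d1630630a90fe0532770c81280c21cf1f61292f24250d702208305229c20e05c08d02916a0600940620db11c09123633f0970dd04a03d0850540ca1041350660ec09c2fd26908400b1a110604602a0700af0be01e07504923d1bf07704b0b10e308c03906803721d0ee04f27118b0670aa02802d0151ad07600a1660e503205e0301ce03f02403c0690201480d10bf13b14b05805902e0130d908f05d09804d05f01b11b0b806f02c0430040900a20010cc00e0500871f300500807100601804511e0020b304707901005b01700702700301a01f02303805110503e0420160190b00340310e405701401204002b04807400900c0360820a405a09204402501102f01d02600f00000d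
noncomputable def B45 (u : Nat) : Nat := Nat.land (Nat.shiftRight B45Lit (Nat.mul 12 u)) 4095
theorem relChk45_c0 : allPow 3510 (relStep [T9, T8, T4, T6, T5, T4, T2, T3, T4] B45 10) 9 0 = true := by decide +kernel
theorem relChk45_c1 : allPow 3510 (relStep [T9, T8, T4, T6, T5, T4, T2, T3, T4] B45 10) 9 512 = true := by decide +kernel
theorem relChk45_c2 : allPow 3510 (relStep [T9, T8, T4, T6, T5, T4, T2, T3, T4] B45 10) 9 1024 = true := by decide +kernel
theorem relChk45_c3 : allPow 3510 (relStep [T9, T8, T4, T6, T5, T4, T2, T3, T4] B45 10) 9 1536 = true := by decide +kernel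
theorem relChk45_c4 : allPow 3510 (relStep [T9, T8, T4, T6, T5, T4, T2, T3, T4] B45 10) 9 2048 = true := by decide +kernel
theorem relChk45_c5 : allPow 3510 (relStep [T9, T8, T4, T6, T5, T4, T2, T3, T4] B45 10) 9 2560 = true := by decide +kernel
theorem relChk45_c6 : allPow 3510 (relStep [T9, T8, T4, T6, T5, T4, T2, T3, T4] B45 10) 9 3072 = true := by decide +kernel
theorem relChk45 : allBelow 12 3510 (relStep [T9, T8, T4, T6, T5, T4, T2, T3, T4] B45 10) = true :=
  allBelow_of_upto (hi := 3584)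
    (Upto.trans (mid := 1536) (Upto.trans (mid := 512) ((Upto.of_pow relChk45_c0 (Nat.le_refl _)) : Upto _ _ 0 (0 + 2 ^ 9))
    (Upto.trans (mid := 1024) ((Upto.of_pow relChk45_c1 (Nat.le_refl _)) : Upto _ _ 512 (512 + 2 ^ 9))
    ((Upto.of_pow relChk45_c2 (Nat.le_refl _)) : Upto _ _ 1024 (1024 + 2 ^ 9))))
    (Upto.trans (mid := 2560) (Upto.trans (mid := 2048) ((Upto.of_pow relChk45_c3 (Nat.le_refl _)) : Upto _ _ 1536 (1536 + 2 ^ 9))
    ((Upto.of_pow relChk45_c4 (Nat.le_refl _)) : Upto _ _ 2048 (2048 + 2 ^ 9)))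
    (Upto.trans (mid := 3072) ((Upto.of_pow relChk45_c5 (Nat.le_refl _)) : Upto _ _ 2560 (2560 + 2 ^ 9))
    ((Upto.of_pow relChk45_c6 (Nat.le_refl _)) : Upto _ _ 3072 (3072 + 2 ^ 9)))))
    (by decide) (by decide)

theorem rel45 : ∀ u, u < 3510 → trace (wordTabs tabs [(.d, true), (.c, true), (.b, true), (.d, true), (.e, true), (.f, true), (.d, true), (.h, true), (.i, true), (.d, true), (.c, true), (.b, true), (.d, true), (.e, true), (.f, true), (.d, true), (.h, true), (.i, true), (.d, true), (.c, true), (.b, true), (.d, true), (.e, true), (.f, true), (.d, true), (.h, true), (.i, true), (.d, true), (.c, true), (.b, true), (.d, true), (.e, true), (.f, true), (.d, true), (.h, true), (.i, true), (.d, true), (.c, true), (.b, true), (.d, true), (.e, true), (.f, true), (.d, true), (.h, true), (.i, true), (.d, true), (.c, true), (.b, true), (.d, true), (.e, true), (.f, true), (.d, true), (.h, true), (.i, true), (.d, true), (.c, true), (.b, true), (.d, true), (.e, true), (.f,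 true), (.d, true), (.h, true), (.i, true), (.d, true), (.c, true), (.b, true), (.d, true), (.e, true), (.f, true), (.d, true), (.h, true), (.i, true), (.d, true), (.c, true), (.b, true), (.d, true), (.e, true), (.f, true), (.d, true), (.h, true), (.i, true), (.d, true), (.c, true), (.b, true), (.d, true), (.e, true), (.f, true), (.d, true), (.h, true), (.i, true)]) u = u := by
  intro u hu
  exact trace_replicate_of_relStep (base := [T9, T8, T4, T6, T5, T4, T2, T3, T4]) (m := 10)
    (fun v hv => trace_lt tablesOK [(.d, true), (.c, true), (.b, true), (.d, true), (.e, true), (.f, true), (.d, true), (.h, true), (.i, true)] v hv) relChk45 u hu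

end CfsgLib.SporRecognition.Cert.Fi22U
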